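import Groth.Agent.DiagRig.MonoLocus.Chart
import Groth.Agent.DiagRig.ClosedCond
import Groth.Agent.GrpScheme.FlatFib.Scheme
import Groth.Agent.S17681

/-!
# The locus where a monomorphism-subgroup of a smooth group with connected fibres is everything
-/

universe u

open CategoryTheory MonoidalCategory CartesianMonoidalCategory MonObj GrpObj AlgebraicGeometry Limits

noncomputable section

set_option backward.isDefEq.respectTransparency.types false

namespace Groth.Agent.DiagRig.MonoLocus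

variable {S : Scheme.{u}} {G H E : Over S} (m : E ⟶ G ⊗ H) [GrpObj H]

/-- Landing as a condition on morphisms of schemes. -/
def Cond ⦃T : Scheme.{u}⦄ (x : T ⟶ G.left) : Prop :=
  LandsM m (Over.homMk x rfl : Over.mk (x ≫ G.hom) ⟶ G)

omit [GrpObj H] in
theorem cond_iff {X : Over S} (g : X ⟶ G) : Cond m g.left ↔ LandsM m g := by
  let a : X ⟶ Over.mk (g.left ≫ G.hom) := Over.homMk (𝟙 _) (by simp)
  let b : Over.mk (g.left ≫ G.hom) ⟶ X := Over.homMk (𝟙 _) (by simp)
  refine ⟨fun h => ?_, fun h => ?_⟩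
  · rw [show g = a ≫ Over.homMk g.left rfl from Over.OverMorphism.ext (Category.id_comp _).symm]
    exact LandsM.comp a h
  · show LandsM m _
    rw [show (Over.homMk g.left rfl : Over.mk (g.left ≫ G.hom) ⟶ G) = b ≫ g from
      Over.OverMorphism.ext (Category.id_comp _).symm]
    exact LandsM.comp b h

variable [Mono m] [LocallyOfFinitePresentation m.left] [Smooth H.hom] [GeometricallyIrreducible H.hom]

omit [LocallyOfFinitePresentation m.left] [Smooth H.hom] [GeometricallyIrreducible H.hom] [GrpObj H] in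
theorem isFppf_cond : ClosedCond.IsFppf (Cond m) where
  comp {T T'} c x h := by
    let cO : Over.mk ((c ≫ x) ≫ G.hom) ⟶ Over.mk (x ≫ G.hom) :=
      Over.homMk c (Category.assoc _ _ _).symm
    show LandsM m _
    rw [show (Over.homMk (c ≫ x) rfl : Over.mk ((c ≫ x) ≫ G.hom) ⟶ G) = cO ≫ Over.homMk x rfl from
      Over.OverMorphism.ext rfl]
    exact LandsM.comp cO h
  desc {T} x h := LandsM.of_pointwise _ fun t => by
    obtain ⟨T', c, h1, h2, ht, hc⟩ := h t
    let cO : Over.mk ((c ≫ x) ≫ G.hom) ⟶ Over.mk (x ≫ G.hom) :=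
      Over.homMk c (Category.assoc _ _ _).symm
    exact ⟨_, cO, h1, h2, ht, (cond_iff m (cO ≫ Over.homMk x rfl)).mp hc⟩

/-- The locus is a closed subscheme of finite presentation. -/
theorem exists_closed_landsM (hone : ∃ ε : G ⟶ E, ε ≫ m = lift (𝟙 G) (1 : G ⟶ H))
    (hmul : ∀ (X : Over S) (x : X ⟶ G) (a b : X ⟶ H), (∃ l : X ⟶ E, l ≫ m = lift x a) →
      (∃ l : X ⟶ E, l ≫ m = lift x b) → ∃ l : X ⟶ E, l ≫ m = lift x (a * b)) :
    ∃ (T : Over S) (t : T ⟶ G), IsClosedImmersion t.left ∧ LocallyOfFinitePresentation t.left ∧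
      ∀ (X : Over S) (g : X ⟶ G), (∃ x : X ⟶ T, x ≫ t = g) ↔ LandsM m g := by
  obtain ⟨Z, i, hi, hlfp, hZ⟩ := ClosedCond.exists_closed (isFppf_cond m) fun U b hb => by
    obtain ⟨c, hr, hU⟩ := exists_chart m hone U b hb
    obtain ⟨I, hI, h⟩ := exists_ideal_of_chart m hmul c
    refine ⟨c.R, inferInstance, c.q, c.etale_q, I, hI, fun C φ => ?_, hr, hU⟩
    let _ : Algebra c.R C := φ.hom.toAlgebra
    exact (cond_iff m (testPt m c C)).trans (h C)
  refine ⟨Over.mk (i ≫ G.hom), Over.homMk i rfl, hi, hlfp, fun X g => ?_⟩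
  rw [← cond_iff m g, ← hZ]
  refine ⟨fun ⟨z, hz⟩ => ⟨z.left, congrArg CommaMorphism.left hz⟩, fun ⟨z, hz⟩ => ⟨Over.homMk z ?_, Over.OverMorphism.ext hz⟩⟩
  show z ≫ i ≫ G.hom = X.hom
  rw [reassoc_of% hz, Over.w]

omit m [Mono m] [LocallyOfFinitePresentation m.left] [Smooth H.hom] [GeometricallyIrreducible H.hom] in
/-- A subgroup condition cut out by `δ` and a monomorphism: general form. -/
theorem exists_closed_forall {W K : Over S} (δ : G ⊗ H ⟶ W) (j : K ⟶ W) [Mono j] [LocallyOfFinitePresentation j.left]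
    [Smooth H.hom] (hconn : ∀ s : S, ConnectedSpace ↥(pullback H.hom (S.fromSpecResidueField s)))
    (hone : ∃ κ : G ⟶ K, κ ≫ j = lift (𝟙 G) (1 : G ⟶ H) ≫ δ)
    (hmul : ∀ (X : Over S) (x : X ⟶ G) (a b : X ⟶ H), (∃ κ : X ⟶ K, κ ≫ j = lift x a ≫ δ) →
      (∃ κ : X ⟶ K, κ ≫ j = lift x b ≫ δ) → ∃ κ : X ⟶ K, κ ≫ j = lift x (a * b) ≫ δ) :
    ∃ (T : Over S) (t : T ⟶ G), IsClosedImmersion t.left ∧ LocallyOfFinitePresentation t.left ∧
      ∀ (X : Over S) (g : X ⟶ G), (∃ x : X ⟶ T, x ≫ t = g) ↔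
        ∀ (X' : Over S) (x : X' ⟶ X) (h : X' ⟶ H), ∃ κ : X' ⟶ K, κ ≫ j = lift (x ≫ g) h ≫ δ := by
  have : GeometricallyIrreducible H.hom := S17681.geometricallyIrreducible_of_connected_fibres H hconn
  let E : Over S := Over.mk (pullback.fst δ.left j.left ≫ (G ⊗ H).hom)
  let m : E ⟶ G ⊗ H := Over.homMk (pullback.fst δ.left j.left) rfl
  have : Mono m.left := inferInstanceAs (Mono (pullback.fst δ.left j.left))
  have : Mono m := Over.mono_of_mono_left m
  have : LocallyOfFinitePresentation m.left :=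
    MorphismProperty.pullback_fst (P := @LocallyOfFinitePresentation) _ _ ‹_›
  have hlift : ∀ {X : Over S} (a : X ⟶ G ⊗ H), (∃ l : X ⟶ E, l ≫ m = a) ↔ ∃ κ : X ⟶ K, κ ≫ j = a ≫ δ := by
    intro X a
    refine ⟨fun ⟨l, hl⟩ => ?_, fun ⟨κ, hκ⟩ => ?_⟩
    · refine ⟨Over.homMk (l.left ≫ pullback.snd δ.left j.left) ?_, Over.OverMorphism.ext ?_⟩
      · rw [← Over.w j, Category.assoc, ← pullback.condition_assoc, Over.w δ, ← Over.w a, ← hl]
        exact (Category.assoc _ _ _).symm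
      · show (l.left ≫ _) ≫ j.left = (a ≫ δ).left
        rw [Over.comp_left, ← hl, Over.comp_left, Category.assoc, Category.assoc, ← pullback.condition]
        rfl
    · have e : a.left ≫ δ.left = κ.left ≫ j.left := (congrArg CommaMorphism.left hκ).symm
      refine ⟨Over.homMk (pullback.lift a.left κ.left e) ?_, Over.OverMorphism.ext (pullback.lift_fst _ _ _)⟩
      show pullback.lift a.left κ.left e ≫ pullback.fst _ _ ≫ (G ⊗ H).hom = X.hom
      rw [pullback.lift_fst_assoc, Over.w]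
  obtain ⟨T, t, ht, hlfp, hT⟩ := exists_closed_landsM m ((hlift _).mpr hone)
    fun X x a b ha hb => (hlift _).mpr (hmul X x a b ((hlift _).mp ha) ((hlift _).mp hb))
  refine ⟨T, t, ht, hlfp, fun X g => (hT X g).trans ⟨fun h X' x a => (hlift _).mp (h.apply x a), fun h => ?_⟩⟩
  obtain ⟨l, hl⟩ := (hlift _).mpr (h (X ⊗ H) (fst X H) (snd X H))
  refine ⟨l, hl.trans ?_⟩
  refine CartesianMonoidalCategory.hom_ext _ _ ?_ ?_ <;> simp

end Groth.Agent.DiagRig.MonoLocus
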