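import Groth.Agent.MultType.InfNbhd

/-!
# Vanishing near a section of a smooth algebra
-/

universe u

open TensorProduct

namespace Groth.Agent.DiagRig.MonoLocus

open MultType.InfNbhd

variable {R B : Type u} [CommRing R] [CommRing B] [Algebra R B] [Algebra.Smooth R B]

/-- One element: the locus where it dies near the section. -/
theorem exists_ideal_one (e : B →ₐ[R] R) (x : B) :
    ∃ (I : Ideal R) (ν : B), I.FG ∧ e ν = 1 ∧ ∀ (R' : Type u) [CommRing R'] [Algebra R R'],
      (I ≤ RingHom.ker (algebraMap R R') → ((1 : R') ⊗ₜ[R] ν) * ((1 : R') ⊗ₜ[R] x) = 0) ∧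
      ((∀ k : ℕ, (1 : R') ⊗ₜ[R] (Ideal.Quotient.mk (RingHom.ker e ^ (k + 1)) x) = 0) →
        I ≤ RingHom.ker (algebraMap R R')) := by
  obtain ⟨A, _, _, _, C, _, _, _, E, eC, c, hc, heC⟩ := exists_model e x
  obtain ⟨n, μ, hμ, hμc⟩ := exists_stable eC c
  let ι : C →+* B := E.toAlgHom.toRingHom.comp (Algebra.TensorProduct.includeRight : C →ₐ[A] R ⊗[A] C).toRingHom
  have hι : ∀ y, ι y = E ((1 : R) ⊗ₜ[A] y) := fun y => rfl
  have hιe : ∀ y, e (ι y) = algebraMap A R (eC y) := heC
  have hιr : ∀ a, ι (algebraMap A C a) = algebraMap R B (algebraMap A R a) := fun a => by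
    rw [hι, Algebra.algebraMap_eq_smul_one a, ← TensorProduct.smul_tmul, ← Algebra.algebraMap_eq_smul_one,
      show algebraMap A R a ⊗ₜ[A] (1 : C) = algebraMap R (R ⊗[A] C) (algebraMap A R a) from
        (Algebra.TensorProduct.algebraMap_apply _).symm, E.commutes]
  have hm : RingHom.ker e ≤ (RingHom.ker eC).map ι := by
    intro y hy
    obtain ⟨w, rfl⟩ := E.surjective y
    have key : ∀ w, E w - algebraMap R B (e (E w)) ∈ (RingHom.ker eC).map ι := by
      intro w
      induction w using TensorProduct.induction_on with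
      | zero => simp
      | add p q hp hq =>
        rw [map_add, map_add, map_add, add_sub_add_comm]
        exact add_mem hp hq
      | tmul r v =>
        have h1 : E (r ⊗ₜ[A] v) = algebraMap R B r * ι v := by
          rw [hι, ← Algebra.smul_def, ← map_smul, TensorProduct.smul_tmul', smul_eq_mul, mul_one]
        rw [h1, map_mul, e.commutes, Algebra.algebraMap_self_apply, hιe, map_mul, ← hιr, ← mul_sub, ← map_sub]
        refine Ideal.mul_mem_left _ _ (Ideal.mem_map_of_mem ι ?_)
        change eC (v - algebraMap A C (eC v)) = 0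
        rw [map_sub, eC.commutes, Algebra.algebraMap_self_apply, sub_self]
    have := key w
    rwa [show e (E w) = 0 from hy, map_zero, sub_zero] at this
  refine ⟨(content eC c n).map (algebraMap A R), 1 + ι μ, Ideal.FG.map (IsNoetherian.noetherian (content eC c n)) _, ?_,
    fun R' _ _ => ?_⟩
  · rw [map_add, map_one, hιe, show eC μ = 0 from hμ, map_zero, add_zero]
  letI : Algebra A R' := ((algebraMap R R').comp (algebraMap A R)).toAlgebra
  haveI : IsScalarTower A R R' := IsScalarTower.of_algebraMap_eq' rfl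
  refine ⟨fun hI => ?_, fun h => ?_⟩
  · have hkill : ∀ r ∈ content eC c n, algebraMap A R' r = 0 := fun r hr => hI (Ideal.mem_map_of_mem _ hr)
    have h2 : ((1 : R') ⊗ₜ[R] (1 + ι μ)) * ((1 : R') ⊗ₜ[R] x) = 0 := by
      rw [Algebra.TensorProduct.tmul_mul_tmul, one_mul, ← hc, ← hι, ← map_one ι, ← map_add, ← map_mul]
      generalize (1 + μ) * c = w at hμc
      refine Submodule.span_induction (p := fun w _ => (1 : R') ⊗ₜ[R] ι w = (0 : R' ⊗[R] B)) ?_
        (by rw [map_zero, TensorProduct.tmul_zero])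
        (fun p q _ _ hp hq => by rw [map_add, TensorProduct.tmul_add, hp, hq, add_zero])
        (fun r p _ hp => by
          rw [smul_eq_mul, map_mul, ← one_mul (1 : R'), ← Algebra.TensorProduct.tmul_mul_tmul, hp, mul_zero]) hμc
      rintro _ ⟨a, ha, rfl⟩
      rw [hιr, Algebra.algebraMap_eq_smul_one, TensorProduct.tmul_smul, ← algebraMap_smul R' (algebraMap A R a),
        ← IsScalarTower.algebraMap_apply, hkill a ha, zero_smul]
    exact h2
  · have h0 := h n
    let k := n
    have hk : n ≤ k := le_rfl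
    have hkill : ∀ r ∈ content eC c n, algebraMap A R' r = 0 := by
      intro r hr
      obtain ⟨φ, rfl⟩ := content_mono eC c hk hr
      let φ' : C →ₗ[A] A := φ ∘ₗ (Ideal.Quotient.mkₐ A (RingHom.ker eC ^ (k + 1))).toLinearMap
      let Φ : R ⊗[A] C →ₗ[R] R := (TensorProduct.AlgebraTensorModule.rid A R R).toLinearMap ∘ₗ φ'.baseChange R
      let Φ' : B →ₗ[R] R' := (Algebra.linearMap R R') ∘ₗ Φ ∘ₗ E.symm.toLinearEquiv.toLinearMap
      have hΦ : ∀ y, Φ' (ι y) = algebraMap A R' (φ' y) := fun y => by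
        change algebraMap R R' (Φ (E.symm (E ((1 : R) ⊗ₜ[A] y)))) = _
        rw [E.symm_apply_apply]
        simp [Φ, Algebra.smul_def, IsScalarTower.algebraMap_apply A R R']
      have hker : (RingHom.ker e ^ (k + 1)).restrictScalars R ≤ LinearMap.ker Φ' := by
        intro y hy
        have hy' : y ∈ (RingHom.ker eC ^ (k + 1)).map ι := by
          rw [Ideal.map_pow]
          exact Ideal.pow_right_mono hm (k + 1) hy
        refine Submodule.span_induction (p := fun y _ => ∀ b, Φ' (b * y) = 0) ?_ (fun b => by simp)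
          (fun p q _ _ hp hq b => by rw [mul_add, map_add, hp, hq, add_zero])
          (fun r p _ hp b => by rw [smul_eq_mul, ← mul_assoc]; exact hp _) hy' 1 |> fun h => by
            rwa [one_mul] at h
        rintro _ ⟨v, hv, rfl⟩ b
        obtain ⟨w, rfl⟩ := E.surjective b
        induction w using TensorProduct.induction_on with
        | zero => simp
        | add p q hp hq => rw [map_add, add_mul, map_add, hp, hq, add_zero]
        | tmul r u =>
          have h1 : E (r ⊗ₜ[A] u) * ι v = r • ι (u * v) := by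
            rw [map_mul, ← smul_mul_assoc]
            congr 1
            rw [hι, ← map_smul, TensorProduct.smul_tmul', smul_eq_mul, mul_one]
          rw [h1, map_smul, hΦ]
          change r • algebraMap A R' (φ (Ideal.Quotient.mk _ (u * v))) = 0
          rw [Ideal.Quotient.eq_zero_iff_mem.mpr (Ideal.mul_mem_left _ u hv), map_zero, map_zero, smul_zero]
      let Ψ : (B ⧸ RingHom.ker e ^ (k + 1)) →ₗ[R] R' :=
        ((RingHom.ker e ^ (k + 1)).restrictScalars R).liftQ Φ' hker ∘ₗ
          (Submodule.Quotient.restrictScalarsEquiv R (RingHom.ker e ^ (k + 1))).symm.toLinearMap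
      have h1 := congrArg (TensorProduct.lift ((LinearMap.lsmul R' R').restrictScalars₁₂ R R)) (congrArg (Ψ.lTensor R') h0)
      simp only [map_zero, LinearMap.lTensor_tmul, TensorProduct.lift.tmul] at h1
      change (1 : R') * Φ' x = 0 at h1
      rw [one_mul, ← hc, ← hι, hΦ] at h1
      exact h1
    rw [Ideal.map_le_iff_le_comap]
    intro r hr
    exact hkill r hr

/-- An ideal of finite type. -/
theorem exists_ideal_nhd (e : B →ₐ[R] R) (J : Ideal B) (hJ : J.FG) :
    ∃ (I : Ideal R) (ν : B), I.FG ∧ e ν = 1 ∧ ∀ (R' : Type u) [CommRing R'] [Algebra R R'],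
      (I ≤ RingHom.ker (algebraMap R R') → ∀ x ∈ J, ((1 : R') ⊗ₜ[R] ν) * ((1 : R') ⊗ₜ[R] x) = 0) ∧
      ((∀ k : ℕ, ∀ x ∈ J, (1 : R') ⊗ₜ[R] (Ideal.Quotient.mk (RingHom.ker e ^ (k + 1)) x) = 0) →
        I ≤ RingHom.ker (algebraMap R R')) := by
  classical
  obtain ⟨s, hs⟩ := hJ
  choose I ν hI hν h using fun x : s => exists_ideal_one e x.1
  refine ⟨⨆ x, I x, ∏ x, ν x, Submodule.fg_iSup _ hI, by rw [map_prod]; simp [hν],
    fun R' _ _ => ⟨fun hle x hx => ?_, fun hv => iSup_le fun x => (h x R').2 fun k => hv k x.1 ?_⟩⟩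
  · rw [← hs] at hx
    refine Submodule.span_induction (p := fun y _ => ((1 : R') ⊗ₜ[R] (∏ x, ν x)) * ((1 : R') ⊗ₜ[R] y) = 0) ?_
      (by rw [TensorProduct.tmul_zero, mul_zero])
      (fun p q _ _ hp hq => by rw [TensorProduct.tmul_add, mul_add, hp, hq, add_zero])
      (fun r p _ hp => by
        rw [smul_eq_mul, ← one_mul (1 : R'), ← Algebra.TensorProduct.tmul_mul_tmul, mul_left_comm, one_mul, hp, mul_zero]) hx
    intro y hy
    rw [← Finset.mul_prod_erase Finset.univ ν (Finset.mem_univ ⟨y, hy⟩), ← one_mul (1 : R'),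
      ← Algebra.TensorProduct.tmul_mul_tmul, one_mul, mul_right_comm,
      (h ⟨y, hy⟩ R').1 ((le_iSup I ⟨y, hy⟩).trans hle), zero_mul]
  · exact hs ▸ Ideal.subset_span x.2

end Groth.Agent.DiagRig.MonoLocus
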