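import Groth.Agent.DiagRig.MonoLocus.Group
import Groth.Agent.DiagRig.MonoLocus.Alg
import Groth.Agent.DiagRig.WeilLocus.Basic
import Groth.Agent.EtStruct.LocalImm

/-!
# Étale charts of a monomorphism near the unit section, and the landing locus on a chart
-/

universe u

open CategoryTheory MonoidalCategory CartesianMonoidalCategory MonObj GrpObj AlgebraicGeometry Limits
open scoped TensorProduct

noncomputable section

set_option backward.isDefEq.respectTransparency.types false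
set_option maxHeartbeats 800000

namespace Groth.Agent.DiagRig.MonoLocus

variable {S : Scheme.{u}} {G H E : Over S} (m : E ⟶ G ⊗ H) [GrpObj H]

/-- The unit section of `G ⊗ H` over `G`. -/
abbrev unitSec : G.left ⟶ (G ⊗ H).left := (lift (𝟙 G) (1 : G ⟶ H)).left

/-- A chart at which `E` is cut out near the unit section by a finitely generated ideal. -/
structure Chart where
  R : Type u
  B : Type u
  [instR : CommRing R]
  [instB : CommRing B]
  [instAlg : Algebra R B]
  smooth : Algebra.Smooth R B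
  q : Spec (CommRingCat.of R) ⟶ G.left
  a : Spec (CommRingCat.of B) ⟶ (G ⊗ H).left
  hw : a ≫ (fst G H).left = Spec.map (CommRingCat.ofHom (algebraMap R B)) ≫ q
  e : B →ₐ[R] R
  hsec : Spec.map (CommRingCat.ofHom e.toRingHom) ≫ a = q ≫ unitSec
  etale_q : Etale q
  etale_a : Etale a
  J : Ideal B
  fg : J.FG
  pos : ∀ (D : CommRingCat.{u}) (ψ : CommRingCat.of B ⟶ D), J ≤ RingHom.ker ψ.hom →
    ∃ l, l ≫ m.left = Spec.map ψ ≫ a
  nhd : ∀ (D : CommRingCat.{u}) (ψ : CommRingCat.of B ⟶ D), (∃ l, l ≫ m.left = Spec.map ψ ≫ a) →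
    Set.range (Spec.map ψ) ⊆ Set.range (Spec.map (CommRingCat.ofHom e.toRingHom)) → J ≤ RingHom.ker ψ.hom

attribute [instance] Chart.instR Chart.instB Chart.instAlg

variable [Mono m] [LocallyOfFinitePresentation m.left] [Smooth H.hom]

/-- An étale neighbourhood of the unit on which `E` has a closed piece. -/
theorem exists_cut (hone : ∃ ε : G ⟶ E, ε ≫ m = lift (𝟙 G) (1 : G ⟶ H)) (U : G.left.affineOpens) (b : G.left)
    (hb : b ∈ U.1) : ∃ (U₁ : Scheme.{u}) (g : U₁ ⟶ (G ⊗ H).left) (_ : Etale g) (V : (pullback m.left g).Opens)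
      (_ : IsClosedImmersion (V.ι ≫ pullback.snd m.left g)) (R₀ : Type u) (_ : CommRing R₀)
      (q₀ : Spec (CommRingCat.of R₀) ⟶ G.left) (_ : Etale q₀) (σU : Spec (CommRingCat.of R₀) ⟶ U₁),
      σU ≫ g = q₀ ≫ unitSec ∧ (∀ t, ∃ v ∈ V, pullback.snd m.left g v = σU t) ∧ (∃ r, q₀ r = b) ∧
      Set.range q₀ ⊆ U.1 := by
  obtain ⟨ε, hε⟩ := hone
  let π := (fst G H).left
  let s₀ : G.left ⟶ (G ⊗ H).left := unitSec
  have hεl : ε.left ≫ m.left = s₀ := congrArg CommaMorphism.left hε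
  have hs₀ : s₀ ≫ π = 𝟙 _ := by
    show (lift (𝟙 G) (1 : G ⟶ H) ≫ fst G H).left = 𝟙 G.left
    rw [lift_fst]
    rfl
  have hπ : Smooth π := inferInstanceAs (Smooth (pullback.fst G.hom H.hom))
  have : LocallyOfFiniteType m.left := inferInstance
  have : FormallyUnramified m.left := inferInstance
  obtain ⟨U₁, g, u₁, hg, hgu, ⟨D⟩⟩ := EtStruct.exists_parts_of_locallyOfFiniteType m.left (s₀ b)
    (fun _ : Unit => ε.left b) (fun _ => by rw [← Scheme.Hom.comp_apply, hεl])
  let sn := pullback.snd m.left g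
  have hsn : Function.Injective sn := sn.injective
  let τ : pullback s₀ g ⟶ pullback m.left g :=
    pullback.lift (pullback.fst s₀ g ≫ ε.left) (pullback.snd s₀ g) (by rw [Category.assoc, hεl, pullback.condition])
  obtain ⟨b', hb'₁, hb'₂⟩ := Scheme.Pullback.exists_preimage_pullback (f := s₀) (g := g) b u₁ hgu.symm
  obtain ⟨k, hk⟩ := D.cover (τ b') () (by rw [← Scheme.Hom.comp_apply, pullback.lift_snd, hb'₂])
    (by rw [← Scheme.Hom.comp_apply, pullback.lift_fst, Scheme.Hom.comp_apply, hb'₁])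
  let V := D.V k
  let z := V.ι ≫ sn
  have hz : IsClosedImmersion z := D.closedImm k
  have hb'V : b' ∈ (τ ⁻¹ᵁ V) ⊓ (pullback.fst s₀ g ⁻¹ᵁ U.1) :=
    ⟨show τ b' ∈ V from hk ▸ D.mem k, show pullback.fst s₀ g b' ∈ U.1 by rw [hb'₁]; exact hb⟩
  obtain ⟨W, hW, hbW, hWle⟩ := exists_isAffineOpen_mem_and_subset hb'V
  let R₀ : Type u := Γ(pullback s₀ g, W)
  let q₀ : Spec (CommRingCat.of R₀) ⟶ G.left := hW.fromSpec ≫ pullback.fst s₀ g
  let σU : Spec (CommRingCat.of R₀) ⟶ U₁ := hW.fromSpec ≫ pullback.snd s₀ g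
  obtain ⟨w, hw'⟩ : b' ∈ Set.range hW.fromSpec := by rw [hW.range_fromSpec]; exact hbW
  have hq₀ : Etale q₀ := by
    have : Etale (pullback.fst s₀ g) := MorphismProperty.pullback_fst (P := @Etale) _ _ hg
    infer_instance
  refine ⟨U₁, g, hg, V, hz, R₀, inferInstance, q₀, hq₀, σU, ?_, fun t => ⟨τ (hW.fromSpec t), ?_, ?_⟩, ⟨w, ?_⟩, ?_⟩
  · simp only [σU, q₀, Category.assoc]
    rw [← pullback.condition]
  · exact (hWle (hW.range_fromSpec.le ⟨t, rfl⟩)).1
  · rw [← Scheme.Hom.comp_apply, pullback.lift_snd]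
    rfl
  · rw [Scheme.Hom.comp_apply, hw', hb'₁]
  · rintro _ ⟨z, rfl⟩
    exact (hWle (hW.range_fromSpec.le ⟨z, rfl⟩)).2

/-- Such a neighbourhood gives a chart. -/
theorem exists_chart_of_cut {U₁ : Scheme.{u}} (g : U₁ ⟶ (G ⊗ H).left) [Etale g]
    (V : (pullback m.left g).Opens) [IsClosedImmersion (V.ι ≫ pullback.snd m.left g)] {R₀ : Type u} [CommRing R₀]
    (q₀ : Spec (CommRingCat.of R₀) ⟶ G.left) [Etale q₀] (σU : Spec (CommRingCat.of R₀) ⟶ U₁)
    (hσ : σU ≫ g = q₀ ≫ unitSec) (hσV : ∀ t, ∃ v ∈ V, pullback.snd m.left g v = σU t)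
    (b : G.left) (w : ↥(Spec (CommRingCat.of R₀))) (hwb : q₀ w = b) :
    ∃ c : Chart m, (∃ r, c.q r = b) ∧ Set.range c.q ⊆ Set.range q₀ := by
  let π := (fst G H).left
  let s₀ : G.left ⟶ (G ⊗ H).left := unitSec
  have hs₀ : s₀ ≫ π = 𝟙 _ := by
    show (lift (𝟙 G) (1 : G ⟶ H) ≫ fst G H).left = 𝟙 G.left
    rw [lift_fst]
    rfl
  have hπ : Smooth π := inferInstanceAs (Smooth (pullback.fst G.hom H.hom))
  let sn := pullback.snd m.left g
  have hsn : Function.Injective sn := sn.injective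
  let z := V.ι ≫ sn
  let P := pullback (g ≫ π) q₀
  let σ : Spec (CommRingCat.of R₀) ⟶ P := pullback.lift σU (𝟙 _) (by
    rw [Category.id_comp, reassoc_of% hσ]
    exact (congrArg (q₀ ≫ ·) hs₀).trans (Category.comp_id _))
  obtain ⟨O, hO, hwO, -⟩ := exists_isAffineOpen_mem_and_subset (X := P) (x := σ w) (U := ⊤) trivial
  let B₀ : Type u := Γ(P, O)
  let j₀ : Spec (CommRingCat.of B₀) ⟶ P := hO.fromSpec
  have : IsOpenImmersion j₀ := IsAffineOpen.isOpenImmersion_fromSpec hO
  let _ : Algebra R₀ B₀ := (Spec.preimage (j₀ ≫ pullback.snd (g ≫ π) q₀)).hom.toAlgebra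
  have hj₀snd : j₀ ≫ pullback.snd (g ≫ π) q₀ = Spec.map (CommRingCat.ofHom (algebraMap R₀ B₀)) :=
    (Spec.map_preimage _).symm
  have hsmB : Algebra.Smooth R₀ B₀ := by
    have h : Smooth (Spec.map (CommRingCat.ofHom (algebraMap R₀ B₀))) := by
      rw [← hj₀snd]
      infer_instance
    exact RingHom.smooth_algebraMap.mp ((HasRingHomProperty.Spec_iff (P := @Smooth)).mp h)
  obtain ⟨_, ⟨r, rfl⟩, hwr, hrO⟩ := PrimeSpectrum.isTopologicalBasis_basic_opens.exists_subset_of_mem_open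
    (show w ∈ σ ⁻¹' (O : Set P) from hwO) (O.2.preimage σ.continuous)
  let R := Localization.Away r
  let i : Spec (CommRingCat.of R) ⟶ Spec (CommRingCat.of R₀) := Spec.map (CommRingCat.ofHom (algebraMap R₀ R))
  have : IsOpenImmersion i := IsOpenImmersion.of_isLocalization r
  have hi : Set.range i ⊆ σ ⁻¹' (O : Set P) := fun _ ⟨z, hz⟩ => hrO (hz ▸
    (PrimeSpectrum.localization_away_comap_range R r).le ⟨z, rfl⟩)
  let ρ : Spec (CommRingCat.of R) ⟶ Spec (CommRingCat.of B₀) := IsOpenImmersion.lift j₀ (i ≫ σ) (by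
    rintro _ ⟨z, rfl⟩
    show (i ≫ σ) z ∈ Set.range hO.fromSpec
    rw [hO.range_fromSpec]
    exact hi ⟨z, rfl⟩)
  have hρ : CommRingCat.ofHom (algebraMap R₀ B₀) ≫ Spec.preimage ρ = CommRingCat.ofHom (algebraMap R₀ R) := by
    apply Spec.map_injective
    rw [Spec.map_comp, Spec.map_preimage, ← hj₀snd, IsOpenImmersion.lift_fac_assoc, Category.assoc, pullback.lift_snd,
      Category.comp_id]
  let ψ : B₀ →ₐ[R₀] R := { (Spec.preimage ρ).hom with commutes' := fun z => congr(($hρ).hom z) }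
  let e : R ⊗[R₀] B₀ →ₐ[R] R := Algebra.TensorProduct.lift (AlgHom.id R R) ψ fun _ _ => Commute.all _ _
  let inc : Spec (CommRingCat.of (R ⊗[R₀] B₀)) ⟶ Spec (CommRingCat.of B₀) :=
    Spec.map (CommRingCat.ofHom (Algebra.TensorProduct.includeRight : B₀ →ₐ[R₀] R ⊗[R₀] B₀).toRingHom)
  have hinc : Etale inc := by
    rw [show inc = (pullbackSpecIso R₀ R B₀).inv ≫ pullback.snd _ _ from (pullbackSpecIso_inv_snd R₀ R B₀).symm]
    have : Etale (pullback.snd i (Spec.map (CommRingCat.ofHom (algebraMap R₀ B₀)))) :=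
      MorphismProperty.pullback_snd (P := @Etale) _ _ inferInstance
    infer_instance
  let aU : Spec (CommRingCat.of (R ⊗[R₀] B₀)) ⟶ U₁ := inc ≫ j₀ ≫ pullback.fst (g ≫ π) q₀
  have haU : Etale aU := by
    have : Etale (pullback.fst (g ≫ π) q₀) := MorphismProperty.pullback_fst (P := @Etale) _ _ ‹Etale q₀›
    infer_instance
  obtain ⟨J, hJfg, hJ⟩ := exists_ideal_factor_fg z (CommRingCat.of (R ⊗[R₀] B₀)) aU
  have hee : Spec.map (CommRingCat.ofHom e.toRingHom) ≫ inc = ρ := by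
    rw [← Spec.map_comp, ← Spec.map_preimage ρ]
    congr 1
    ext x
    show e ((1 : R) ⊗ₜ[R₀] x) = _
    rw [Algebra.TensorProduct.lift_tmul]
    simp [ψ]
  have hsec' : Spec.map (CommRingCat.ofHom e.toRingHom) ≫ aU = i ≫ σU := by
    rw [reassoc_of% hee, IsOpenImmersion.lift_fac_assoc, Category.assoc, pullback.lift_fst]
  refine ⟨{ R := R, B := R ⊗[R₀] B₀, smooth := inferInstance, q := i ≫ q₀, a := aU ≫ g, hw := ?_, e := e,
            hsec := ?_, etale_q := inferInstance, etale_a := inferInstance, J := J, fg := hJfg inferInstance,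
            pos := ?_, nhd := ?_ }, ?_, ?_⟩
  · simp only [aU, Category.assoc]
    rw [pullback.condition, reassoc_of% hj₀snd]
    simp only [inc, i, ← Spec.map_comp_assoc]
    congr 2
    ext x
    exact ((Algebra.TensorProduct.includeRight : B₀ →ₐ[R₀] R ⊗[R₀] B₀).commutes x).trans
      (IsScalarTower.algebraMap_apply R₀ R (R ⊗[R₀] B₀) x)
  · rw [reassoc_of% hsec', hσ]
    exact (Category.assoc _ _ _).symm
  · intro D ψD hψ
    obtain ⟨l, hl⟩ := (hJ D ψD).mpr hψ
    exact ⟨l ≫ V.ι ≫ pullback.fst m.left g, by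
      rw [Category.assoc, Category.assoc, pullback.condition, ← Category.assoc V.ι, ← Category.assoc l]
      show (l ≫ z) ≫ g = _
      rw [hl, Category.assoc]⟩
  · rintro D ψD ⟨l, hl⟩ hrange
    let L : Spec D ⟶ pullback m.left g := pullback.lift l (Spec.map ψD ≫ aU) (hl.trans (Category.assoc _ _ _).symm)
    have hL : Set.range L ⊆ Set.range V.ι := by
      rintro _ ⟨d, rfl⟩
      rw [Scheme.Opens.range_ι]
      obtain ⟨t, ht⟩ := hrange ⟨d, rfl⟩
      obtain ⟨v, hv, hvt⟩ := hσV (i t)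
      suffices L d = v by rw [this]; exact hv
      apply hsn
      rw [hvt, ← Scheme.Hom.comp_apply, pullback.lift_snd, Scheme.Hom.comp_apply, ← ht, ← Scheme.Hom.comp_apply, hsec',
        Scheme.Hom.comp_apply]
    refine (hJ D ψD).mp ⟨IsOpenImmersion.lift V.ι L hL, ?_⟩
    show _ ≫ V.ι ≫ sn = _
    rw [IsOpenImmersion.lift_fac_assoc, pullback.lift_snd]
  · obtain ⟨r', hr'⟩ := (PrimeSpectrum.localization_away_comap_range R r).ge hwr
    refine ⟨r', ?_⟩
    show (i ≫ q₀) r' = b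
    rw [Scheme.Hom.comp_apply, show i r' = w from hr', hwb]
  · rintro _ ⟨z, rfl⟩
    exact ⟨i z, rfl⟩

/-- Charts exist around every point. -/
theorem exists_chart (hone : ∃ ε : G ⟶ E, ε ≫ m = lift (𝟙 G) (1 : G ⟶ H)) (U : G.left.affineOpens) (b : G.left)
    (hb : b ∈ U.1) : ∃ c : Chart m, (∃ r, c.q r = b) ∧ Set.range c.q ⊆ U.1 := by
  obtain ⟨U₁, g, hg, V, hV, R₀, _, q₀, hq₀, σU, hσ, hσV, ⟨w, hw⟩, hU⟩ := exists_cut m hone U b hb
  obtain ⟨c, hc, hcU⟩ := exists_chart_of_cut m g V q₀ σU hσ hσV b w hw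
  exact ⟨c, hc, hcU.trans hU⟩

/-- The test scheme over a chart. -/
abbrev testObj (c : Chart m) (C : Type u) [CommRing C] [Algebra c.R C] : Over S :=
  Over.mk ((Spec.map (CommRingCat.ofHom (algebraMap c.R C)) ≫ c.q) ≫ G.hom)

/-- The test point. -/
abbrev testPt (c : Chart m) (C : Type u) [CommRing C] [Algebra c.R C] : testObj m c C ⟶ G :=
  Over.homMk (Spec.map (CommRingCat.ofHom (algebraMap c.R C)) ≫ c.q) rfl

omit [Mono m] [LocallyOfFinitePresentation m.left] in
/-- On a chart, landing is given by an ideal. -/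
theorem exists_ideal_of_chart [GeometricallyIrreducible H.hom] [Mono m]
    (hmul : ∀ (X : Over S) (x : X ⟶ G) (a b : X ⟶ H), (∃ l : X ⟶ E, l ≫ m = lift x a) →
      (∃ l : X ⟶ E, l ≫ m = lift x b) → ∃ l : X ⟶ E, l ≫ m = lift x (a * b))
    (c : Chart m) :
    ∃ I : Ideal c.R, I.FG ∧ ∀ (C : Type u) [CommRing C] [Algebra c.R C],
      LandsM m (testPt m c C) ↔ I ≤ RingHom.ker (algebraMap c.R C) := by
  have := c.smooth
  obtain ⟨I, ν, hI, hν, h⟩ := exists_ideal_nhd c.e c.J c.fg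
  refine ⟨I, hI, fun C _ _ => ⟨fun hL => (h C).2 fun k x hx => ?_, fun hle => ?_⟩⟩
  · let Q := c.B ⧸ RingHom.ker c.e ^ (k + 1)
    let ψ : c.B →ₐ[c.R] C ⊗[c.R] Q :=
      (Algebra.TensorProduct.includeRight : Q →ₐ[c.R] C ⊗[c.R] Q).comp (Ideal.Quotient.mkₐ c.R _)
    let Z : Over S := Over.mk ((Spec.map (CommRingCat.ofHom ψ.toRingHom) ≫ c.a) ≫ (G ⊗ H).hom)
    let az : Z ⟶ G ⊗ H := Over.homMk (Spec.map (CommRingCat.ofHom ψ.toRingHom) ≫ c.a) rfl
    have hzG : Spec.map (CommRingCat.ofHom (algebraMap C (C ⊗[c.R] Q))) ≫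
        Spec.map (CommRingCat.ofHom (algebraMap c.R C)) ≫ c.q =
        (Spec.map (CommRingCat.ofHom ψ.toRingHom) ≫ c.a) ≫ (fst G H).left := by
      rw [Category.assoc, c.hw, ← Spec.map_comp_assoc, ← Spec.map_comp_assoc]
      congr 2
      ext r
      exact (IsScalarTower.algebraMap_apply c.R C (C ⊗[c.R] Q) r).symm.trans (ψ.commutes r).symm
    let zT : Z ⟶ testObj m c C := Over.homMk (Spec.map (CommRingCat.ofHom (algebraMap C (C ⊗[c.R] Q)))) (by
      show _ ≫ (_ ≫ c.q) ≫ G.hom = (_ ≫ c.a) ≫ (G ⊗ H).hom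
      rw [← Over.w (fst G H), ← Category.assoc (Spec.map _), hzG]
      simp only [Category.assoc])
    obtain ⟨l, hl⟩ := hL.apply zT (az ≫ snd G H)
    have hl' : lift (zT ≫ testPt m c C) (az ≫ snd G H) = az := by
      refine CartesianMonoidalCategory.hom_ext _ _ ?_ ?_
      · rw [lift_fst]
        exact Over.OverMorphism.ext hzG
      · rw [lift_snd]
    rw [hl'] at hl
    refine c.nhd _ (CommRingCat.ofHom ψ.toRingHom) ⟨l.left, congrArg CommaMorphism.left hl⟩ ?_ hx
    rintro _ ⟨p, rfl⟩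
    have hse : Function.Surjective c.e.toRingHom := fun r => ⟨algebraMap c.R c.B r, c.e.commutes r⟩
    show PrimeSpectrum.comap ψ.toRingHom p ∈ Set.range (PrimeSpectrum.comap c.e.toRingHom)
    rw [range_comap_of_surjective _ _ hse]
    intro y hy
    have hp : (p : PrimeSpectrum (C ⊗[c.R] Q)).asIdeal.IsPrime := (p : PrimeSpectrum (C ⊗[c.R] Q)).isPrime
    refine hp.mem_of_pow_mem (k + 1) ?_
    show ψ y ^ (k + 1) ∈ _
    rw [← map_pow]
    have h0 : ψ (y ^ (k + 1)) = 0 := by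
      show Algebra.TensorProduct.includeRight (Ideal.Quotient.mk _ (y ^ (k + 1))) = (0 : C ⊗[c.R] Q)
      rw [(Ideal.Quotient.eq_zero_iff_mem (I := RingHom.ker c.e ^ (k + 1))).mpr
        (Ideal.pow_mem_pow (show y ∈ RingHom.ker c.e from hy) _), map_zero]
    rw [h0]
    exact zero_mem _
  · -- the neighbourhood
    let T := testObj m c C
    let x := testPt m c C
    let C' := C ⊗[c.R] c.B
    let L := Localization.Away ((1 : C) ⊗ₜ[c.R] ν : C')
    let iL : Spec (CommRingCat.of L) ⟶ Spec (CommRingCat.of C') := Spec.map (CommRingCat.ofHom (algebraMap C' L))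
    have : IsOpenImmersion iL := IsOpenImmersion.of_isLocalization ((1 : C) ⊗ₜ[c.R] ν : C')
    let iB : Spec (CommRingCat.of C') ⟶ Spec (CommRingCat.of c.B) :=
      Spec.map (CommRingCat.ofHom (Algebra.TensorProduct.includeRight : c.B →ₐ[c.R] C').toRingHom)
    obtain ⟨l, hl⟩ := c.pos (CommRingCat.of L) (CommRingCat.ofHom ((algebraMap C' L).comp
      (Algebra.TensorProduct.includeRight : c.B →ₐ[c.R] C').toRingHom)) fun y hy => by
        show algebraMap C' L ((1 : C) ⊗ₜ[c.R] y) = 0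
        have h1 := congrArg (algebraMap C' L) ((h C).1 hle y hy)
        rw [map_mul, map_zero] at h1
        exact (IsLocalization.Away.algebraMap_isUnit (S := L) ((1 : C) ⊗ₜ[c.R] ν : C')).mul_right_eq_zero.mp h1
    have hP := (GITLib.isPullback_whiskerRight x H).flip
    let cm : Spec (CommRingCat.of C') ⟶ (T ⊗ H).left :=
      WeilLocus.chartMap (f := (fst G H).left) c.a c.q c.hw C ≫ hP.isoPullback.inv
    have hcm₁ : cm ≫ (x ▷ H).left = iB ≫ c.a := by
      rw [Category.assoc]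
      erw [hP.isoPullback_inv_fst]
      exact WeilLocus.chartMap_fst c.a c.q c.hw C
    have hcm₂ : cm ≫ (fst T H).left = Spec.map (CommRingCat.ofHom (algebraMap C C')) := by
      rw [Category.assoc]
      erw [hP.isoPullback_inv_snd]
      exact WeilLocus.chartMap_snd c.a c.q c.hw C
    let D : Over S := Over.mk ((iL ≫ cm) ≫ (T ⊗ H).hom)
    let cD : D ⟶ T ⊗ H := Over.homMk (iL ≫ cm) rfl
    have hcD : Etale (iL ≫ cm) := by
      have hq := c.etale_q
      have ha := c.etale_a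
      have hl : Etale (pullback.lift c.a (Spec.map (CommRingCat.ofHom (algebraMap c.R c.B))) c.hw) := by
        have h1 : Etale (pullback.fst (fst G H).left c.q) := MorphismProperty.pullback_fst (P := @Etale) _ _ hq
        have h2 : Etale (pullback.lift c.a (Spec.map (CommRingCat.ofHom (algebraMap c.R c.B))) c.hw ≫
            pullback.fst (fst G H).left c.q) := by rw [pullback.lift_fst]; exact ha
        exact Etale.of_comp _ (pullback.fst (fst G H).left c.q)
      have h3 : Etale (WeilLocus.chartMap (f := (fst G H).left) c.a c.q c.hw C) :=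
        MorphismProperty.of_isPullback (P := @Etale) (WeilLocus.isPullback_chartMap c.a c.q c.hw C).flip hl
      infer_instance
    have : Flat cD.left := (inferInstance : Flat (iL ≫ cm))
    have : LocallyOfFinitePresentation cD.left := (inferInstance : LocallyOfFinitePresentation (iL ≫ cm))
    have hwD : (iL ≫ cm) ≫ (x ▷ H).left = Spec.map (CommRingCat.ofHom ((algebraMap C' L).comp
        (Algebra.TensorProduct.includeRight : c.B →ₐ[c.R] C').toRingHom)) ≫ c.a := by
      rw [Category.assoc, hcm₁, ← Category.assoc]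
      exact congrArg (· ≫ c.a) (Spec.map_comp _ _).symm
    refine lands_of_nhd hmul x cD ⟨Over.homMk l ?_, Over.OverMorphism.ext (hl.trans hwD.symm)⟩ fun t => ?_
    · rw [← Over.w m, ← Category.assoc, hl, ← hwD, Category.assoc, Over.w]
      rfl
    · let e' : C' →ₐ[C] C :=
        Algebra.TensorProduct.lift (AlgHom.id C C) ((Algebra.ofId c.R C).comp c.e) fun _ _ => Commute.all _ _
      have hu : IsUnit (e'.toRingHom ((1 : C) ⊗ₜ[c.R] ν)) := by
        show IsUnit (e' _)
        rw [Algebra.TensorProduct.lift_tmul]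
        simp [hν]
      let eL : L →+* C := IsLocalization.Away.lift (S := L) ((1 : C) ⊗ₜ[c.R] ν : C') hu
      have heL : eL.comp (algebraMap C' L) = e'.toRingHom :=
        RingHom.ext (IsLocalization.Away.lift_eq (S := L) ((1 : C) ⊗ₜ[c.R] ν : C') hu)
      let σ : Spec (CommRingCat.of C) ⟶ Spec (CommRingCat.of L) := Spec.map (CommRingCat.ofHom eL)
      refine ⟨σ t, ?_⟩
      show (iL ≫ cm) (σ t) = _
      rw [← Scheme.Hom.comp_apply]
      have key : σ ≫ iL ≫ cm = (lift (𝟙 T) (1 : T ⟶ H)).left := by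
        have hσ : σ ≫ iL = Spec.map (CommRingCat.ofHom e'.toRingHom) := by
          rw [← Spec.map_comp, ← CommRingCat.ofHom_comp, heL]
        refine hP.hom_ext ?_ ?_
        · rw [Category.assoc, Category.assoc, hcm₁, reassoc_of% hσ, ← Spec.map_comp_assoc]
          have h1 : lift (𝟙 T) (1 : T ⟶ H) ≫ x ▷ H = x ≫ lift (𝟙 G) (1 : G ⟶ H) := by
            rw [lift_whiskerRight, comp_lift, Category.id_comp, Category.comp_id, MonObj.comp_one]
          rw [← Over.comp_left, h1, Over.comp_left]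
          show _ = (Spec.map _ ≫ c.q) ≫ unitSec
          rw [Category.assoc, ← c.hsec, ← Spec.map_comp_assoc]
          congr 2
          ext y
          show e' ((1 : C) ⊗ₜ[c.R] y) = algebraMap c.R C (c.e y)
          rw [Algebra.TensorProduct.lift_tmul]
          simp
        · rw [Category.assoc, Category.assoc, hcm₂, reassoc_of% hσ, ← Spec.map_comp, ← Over.comp_left, lift_fst]
          rw [show CommRingCat.ofHom (algebraMap C C') ≫ CommRingCat.ofHom e'.toRingHom = 𝟙 _ from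
            CommRingCat.hom_ext (RingHom.ext e'.commutes), Spec.map_id]
          rfl
      rw [key]

end Groth.Agent.DiagRig.MonoLocus
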