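import Groth.Agent.GITLib.Orbit
import Mathlib.AlgebraicGeometry.Morphisms.FlatDescent
import Mathlib.AlgebraicGeometry.Geometrically.Irreducible
import Mathlib.AlgebraicGeometry.Morphisms.Smooth

/-!
# A subgroup functor of a group scheme with irreducible fibres which contains a neighbourhood of the
unit contains everything
-/

universe u

open CategoryTheory MonoidalCategory CartesianMonoidalCategory MonObj GrpObj AlgebraicGeometry Limits

noncomputable section

namespace Groth.Agent.DiagRig.MonoLocus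

/-- Factoring through a monomorphism is local for fppf families of points. -/
theorem exists_lift_of_fppf_pointwise {X Y P : Scheme.{u}} (m : Y ⟶ X) [Mono m] (a : P ⟶ X)
    (h : ∀ p : P, ∃ (P' : Scheme.{u}) (c : P' ⟶ P) (l : P' ⟶ Y),
      Flat c ∧ LocallyOfFinitePresentation c ∧ (∃ q, c q = p) ∧ l ≫ m = c ≫ a) : ∃ l : P ⟶ Y, l ≫ m = a := by
  choose P' c l hc hc' hp hl using h
  let π : (∐ P') ⟶ P := Sigma.desc c
  have hι : ∀ p, Sigma.ι P' p ≫ π = c p := fun p => Sigma.ι_desc _ p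
  have h1 : Flat π := (IsZariskiLocalAtSource.iff_of_openCover (P := @Flat) (sigmaOpenCover P')).mpr fun p => by
    show Flat (Sigma.ι P' p ≫ π)
    rw [hι]
    exact hc p
  have h2 : LocallyOfFinitePresentation π :=
    (IsZariskiLocalAtSource.iff_of_openCover (P := @LocallyOfFinitePresentation) (sigmaOpenCover P')).mpr fun p => by
      show LocallyOfFinitePresentation (Sigma.ι P' p ≫ π)
      rw [hι]
      exact hc' p
  have h3 : Surjective π := ⟨fun p => by
    obtain ⟨q, hq⟩ := hp p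
    exact ⟨Sigma.ι P' p q, by rw [← Scheme.Hom.comp_apply, hι, hq]⟩⟩
  have : IsIso (pullback.snd m a) := by
    refine MorphismProperty.of_pullback_fst_of_descendsAlong (P := MorphismProperty.isomorphisms Scheme.{u})
      (Q := @Surjective ⊓ @Flat ⊓ @LocallyOfFinitePresentation) (f := π) ⟨⟨h3, h1⟩, h2⟩ ?_
    show IsIso _
    have : IsSplitEpi (pullback.fst π (pullback.snd m a)) := by
      refine ⟨⟨pullback.lift (𝟙 _) (pullback.lift (Sigma.desc l) π ?_) ?_, pullback.lift_fst ..⟩⟩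
      · refine Sigma.hom_ext _ _ fun p => ?_
        rw [Sigma.ι_desc_assoc, reassoc_of% hι]
        exact hl p
      · rw [Category.id_comp, pullback.lift_snd]
    exact isIso_of_mono_of_isSplitEpi _
  exact ⟨inv (pullback.snd m a) ≫ pullback.fst m a, by
    rw [Category.assoc, pullback.condition, IsIso.inv_hom_id_assoc]⟩

variable {S : Scheme.{u}} {G H E : Over S} (m : E ⟶ G ⊗ H)

/-- The whole fibre over `x` lies in `E`. -/
def LandsM ⦃T : Over S⦄ (x : T ⟶ G) : Prop :=
  ∃ l : T ⊗ H ⟶ E, l ≫ m = x ▷ H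

variable {m}

theorem LandsM.comp {T T' : Over S} (c : T' ⟶ T) {x : T ⟶ G} (h : LandsM m x) : LandsM m (c ≫ x) := by
  obtain ⟨l, hl⟩ := h
  exact ⟨c ▷ H ≫ l, by rw [Category.assoc, hl, comp_whiskerRight]⟩

variable [GrpObj H]

theorem LandsM.apply {T : Over S} {x : T ⟶ G} (h : LandsM m x) {X : Over S} (z : X ⟶ T) (a : X ⟶ H) :
    ∃ l : X ⟶ E, l ≫ m = lift (z ≫ x) a := by
  obtain ⟨l, hl⟩ := h
  exact ⟨lift z a ≫ l, by rw [Category.assoc, hl, lift_whiskerRight]⟩

omit [GrpObj H] in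
/-- Landing is local for fppf families of points of the base. -/
theorem LandsM.of_pointwise [Mono m] {T : Over S} (x : T ⟶ G)
    (h : ∀ t : T.left, ∃ (T' : Over S) (c : T' ⟶ T), Flat c.left ∧ LocallyOfFinitePresentation c.left ∧
      (∃ t', c.left t' = t) ∧ LandsM m (c ≫ x)) : LandsM m x := by
  obtain ⟨l, hl⟩ := exists_lift_of_fppf_pointwise m.left (x ▷ H).left fun p => by
    obtain ⟨T', c, h1, h2, ⟨t', ht'⟩, l, hl⟩ := h ((fst T H).left p)
    have hP := GITLib.isPullback_whiskerRight c H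
    obtain ⟨w, -, hw⟩ := Scheme.Pullback.exists_preimage_pullback (f := c.left) (g := (fst T H).left) t' p ht'
    refine ⟨_, (c ▷ H).left, l.left, MorphismProperty.of_isPullback hP h1, MorphismProperty.of_isPullback hP h2,
      ⟨hP.isoPullback.inv w, ?_⟩, ?_⟩
    · rw [← Scheme.Hom.comp_apply, hP.isoPullback_inv_snd]
      exact hw
    · rw [← Over.comp_left, hl, comp_whiskerRight, Over.comp_left]
  exact ⟨Over.homMk l (by rw [← Over.w m, reassoc_of% hl, Over.w]), Over.OverMorphism.ext hl⟩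

variable (H) in
/-- Multiplication in the second variable. -/
abbrev mulMap (T : Over S) : T ⊗ (H ⊗ H) ⟶ T ⊗ H := T ◁ μ[H]

/-- The shearing automorphism. -/
def shear (T : Over S) : T ⊗ (H ⊗ H) ≅ T ⊗ (H ⊗ H) where
  hom := T ◁ lift (fst H H) (fst H H * snd H H)
  inv := T ◁ lift (fst H H) ((fst H H)⁻¹ * snd H H)
  hom_inv_id := by
    rw [← whiskerLeft_comp, ← whiskerLeft_id]
    congr 1
    ext <;> simp [MonObj.comp_mul, GrpObj.comp_inv]
  inv_hom_id := by
    rw [← whiskerLeft_comp, ← whiskerLeft_id]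
    congr 1
    ext <;> simp [MonObj.comp_mul, GrpObj.comp_inv]

theorem shear_snd (T : Over S) : (shear (H := H) T).hom ≫ T ◁ snd H H = mulMap H T := by
  rw [shear, ← whiskerLeft_comp]
  congr 1
  rw [lift_snd, Hom.mul_def, lift_fst_snd, Category.id_comp]

theorem mulMap_props [Smooth H.hom] [GeometricallyIrreducible H.hom] (T : Over S) :
    Smooth (mulMap H T).left ∧ GeometricallyIrreducible (mulMap H T).left := by
  have h1 : Smooth (snd H H).left ∧ GeometricallyIrreducible (snd H H).left :=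
    ⟨inferInstanceAs (Smooth (pullback.snd H.hom H.hom)),
      inferInstanceAs (GeometricallyIrreducible (pullback.snd H.hom H.hom))⟩
  have hP := GITLib.isPullback_whiskerLeft T (snd H H)
  have h2 : Smooth (T ◁ snd H H).left := MorphismProperty.of_isPullback hP h1.1
  have h3 : GeometricallyIrreducible (T ◁ snd H H).left := MorphismProperty.of_isPullback hP h1.2
  rw [← shear_snd, Over.comp_left]
  exact ⟨(MorphismProperty.cancel_left_of_respectsIso (P := @Smooth) (shear (H := H) T).hom.left _).mpr h2,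
    (MorphismProperty.cancel_left_of_respectsIso (P := @GeometricallyIrreducible) (shear (H := H) T).hom.left _).mpr h3⟩

/-- If an fppf neighbourhood of the unit lands in `E`, everything does. -/
theorem lands_of_nhd [Mono m] [Smooth H.hom] [GeometricallyIrreducible H.hom]
    (hmul : ∀ (X : Over S) (x : X ⟶ G) (a b : X ⟶ H), (∃ l : X ⟶ E, l ≫ m = lift x a) →
      (∃ l : X ⟶ E, l ≫ m = lift x b) → ∃ l : X ⟶ E, l ≫ m = lift x (a * b))
    {T : Over S} (x : T ⟶ G) {D : Over S} (c : D ⟶ T ⊗ H) [Flat c.left] [LocallyOfFinitePresentation c.left]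
    (hc : ∃ l : D ⟶ E, l ≫ m = c ≫ x ▷ H)
    (hone : ∀ t : T.left, ∃ d, c.left d = (lift (𝟙 T) (1 : T ⟶ H)).left t) : LandsM m x := by
  obtain ⟨lc, hlc⟩ := hc
  let u₁ : T ⊗ (H ⊗ H) ⟶ T ⊗ H := T ◁ fst H H
  let u₂ : T ⊗ (H ⊗ H) ⟶ T ⊗ H := T ◁ snd H H
  let W₁ : Scheme.{u} := pullback u₁.left c.left
  let W₂ : Scheme.{u} := pullback u₂.left c.left
  let W : Scheme.{u} := pullback (pullback.fst u₁.left c.left) (pullback.fst u₂.left c.left)
  let w : W ⟶ (T ⊗ (H ⊗ H)).left := pullback.fst _ _ ≫ pullback.fst u₁.left c.left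
  obtain ⟨hsm, hgi⟩ := mulMap_props (H := H) T
  obtain ⟨l, hl⟩ := exists_lift_of_fppf_pointwise m.left (x ▷ H).left fun p => by
    let Ω : (T ⊗ H).left.Opens := ⟨Set.range c.left, c.left.isOpenMap.isOpen_range⟩
    have hirr := (mulMap H T).left.isIrreducible_preimage (mulMap H T).left.isOpenMap
      (isIrreducible_singleton (x := p))
    let s₁ : T ⊗ H ⟶ T ⊗ (H ⊗ H) := T ◁ lift 1 (𝟙 H)
    let s₂ : T ⊗ H ⟶ T ⊗ (H ⊗ H) := T ◁ lift (𝟙 H) 1
    have hs₁ : s₁ ≫ mulMap H T = 𝟙 _ := by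
      rw [← whiskerLeft_comp, ← Hom.mul_def, _root_.one_mul, whiskerLeft_id]
    have hs₂ : s₂ ≫ mulMap H T = 𝟙 _ := by
      rw [← whiskerLeft_comp, ← Hom.mul_def, _root_.mul_one, whiskerLeft_id]
    have hu : ∀ (s : T ⊗ H ⟶ T ⊗ (H ⊗ H)) (u : T ⊗ (H ⊗ H) ⟶ T ⊗ H), s ≫ mulMap H T = 𝟙 _ →
        s ≫ u = fst T H ≫ lift (𝟙 T) 1 →
        ((mulMap H T).left ⁻¹' {p} ∩ u.left ⁻¹' (Ω : Set _)).Nonempty := by
      intro s u hs hsu
      refine ⟨s.left p, ?_, ?_⟩
      · show (mulMap H T).left (s.left p) = p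
        rw [← Scheme.Hom.comp_apply, ← Over.comp_left, hs]
        rfl
      · show u.left (s.left p) ∈ Ω
        rw [← Scheme.Hom.comp_apply, ← Over.comp_left, hsu, Over.comp_left, Scheme.Hom.comp_apply]
        exact hone _
    obtain ⟨q, hq, hq₁, hq₂⟩ := hirr.2 _ _ (Ω.2.preimage u₁.left.continuous) (Ω.2.preimage u₂.left.continuous)
      (hu s₁ u₁ hs₁ (by
        rw [← whiskerLeft_comp, lift_fst]
        refine CartesianMonoidalCategory.hom_ext _ _ ?_ ?_ <;> simp [MonObj.comp_one]))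
      (hu s₂ u₂ hs₂ (by
        rw [← whiskerLeft_comp, lift_snd]
        refine CartesianMonoidalCategory.hom_ext _ _ ?_ ?_ <;> simp [MonObj.comp_one]))
    obtain ⟨d₁, hd₁⟩ := hq₁
    obtain ⟨d₂, hd₂⟩ := hq₂
    obtain ⟨q₁, hq₁', -⟩ := Scheme.Pullback.exists_preimage_pullback (f := u₁.left) (g := c.left) q d₁ hd₁.symm
    obtain ⟨q₂, hq₂', -⟩ := Scheme.Pullback.exists_preimage_pullback (f := u₂.left) (g := c.left) q d₂ hd₂.symm
    obtain ⟨v, hv, -⟩ := Scheme.Pullback.exists_preimage_pullback (f := pullback.fst u₁.left c.left)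
      (g := pullback.fst u₂.left c.left) q₁ q₂ (hq₁'.trans hq₂'.symm)
    let WO : Over S := Over.mk (w ≫ (T ⊗ (H ⊗ H)).hom)
    let wO : WO ⟶ T ⊗ (H ⊗ H) := Over.homMk w rfl
    let p₁ : WO ⟶ D := Over.homMk (pullback.fst _ _ ≫ pullback.snd u₁.left c.left) (by
      show (_ ≫ _) ≫ D.hom = w ≫ _
      rw [← Over.w c, Category.assoc, ← pullback.condition_assoc, Over.w u₁]
      exact (Category.assoc _ _ _).symm)
    let p₂ : WO ⟶ D := Over.homMk (pullback.snd _ _ ≫ pullback.snd u₂.left c.left) (by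
      show (_ ≫ _) ≫ D.hom = w ≫ _
      rw [← Over.w c, Category.assoc, ← pullback.condition_assoc, ← pullback.condition_assoc, Over.w u₂]
      exact (Category.assoc _ _ _).symm)
    have e₁ : wO ≫ u₁ = p₁ ≫ c := by
      refine Over.OverMorphism.ext ?_
      show w ≫ u₁.left = (_ ≫ _) ≫ c.left
      simp only [w, Category.assoc]
      exact congrArg (_ ≫ ·) pullback.condition
    have e₂ : wO ≫ u₂ = p₂ ≫ c := by
      refine Over.OverMorphism.ext ?_
      show w ≫ u₂.left = (_ ≫ _) ≫ c.left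
      simp only [w, Category.assoc]
      rw [pullback.condition_assoc]
      exact congrArg (_ ≫ ·) pullback.condition
    obtain ⟨l, hl⟩ := hmul WO ((wO ≫ fst T (H ⊗ H)) ≫ x) (wO ≫ snd T (H ⊗ H) ≫ fst H H)
      (wO ≫ snd T (H ⊗ H) ≫ snd H H) ⟨p₁ ≫ lc, by
        rw [Category.assoc, hlc, ← reassoc_of% e₁]
        refine CartesianMonoidalCategory.hom_ext _ _ ?_ ?_ <;> simp [u₁]⟩ ⟨p₂ ≫ lc, by
        rw [Category.assoc, hlc, ← reassoc_of% e₂]
        refine CartesianMonoidalCategory.hom_ext _ _ ?_ ?_ <;> simp [u₂]⟩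
    refine ⟨W, (wO ≫ mulMap H T).left, l.left, ?_, ?_, ⟨v, ?_⟩, ?_⟩
    · show Flat (w ≫ (mulMap H T).left)
      infer_instance
    · show LocallyOfFinitePresentation (w ≫ (mulMap H T).left)
      infer_instance
    · show (w ≫ (mulMap H T).left) v = p
      rw [Scheme.Hom.comp_apply, Scheme.Hom.comp_apply, hv, hq₁']
      exact hq
    · rw [← Over.comp_left, hl, ← Over.comp_left]
      congr 1
      refine CartesianMonoidalCategory.hom_ext _ _ ?_ ?_
      · simp
      · simp only [lift_snd, Category.assoc, whiskerRight_snd, whiskerLeft_snd]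
        rw [Hom.mul_def, ← comp_lift, Category.assoc, ← comp_lift_assoc]
        simp
  exact ⟨Over.homMk l (by rw [← Over.w m, reassoc_of% hl, Over.w]), Over.OverMorphism.ext hl⟩

end Groth.Agent.DiagRig.MonoLocus
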